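import Groth.Agent.SmoothFormLib.Orbit
import Groth.Agent.ComodLib.StableClosed
import Groth.Agent.ComodLib.Integral
import Groth.Agent.ComodLib.LinearAction
import Groth.Agent.ComodLib.Mu

/-! The special linear group acting on forms: coordinates of moved forms. -/

set_option autoImplicit false
set_option linter.style.haveILetI false

universe u

open TensorProduct MvPolynomial CoordGrp

namespace Groth.Agent.FormsSLLib

open Groth.Agent.SmoothFormLib

variable {k : Type u} [Field k] {n d : ℕ}

/-- The coordinate functions of matrices restricted to the special linear group. -/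
noncomputable def phi (n : ℕ) (k : Type u) [Field k] : Mat n k →ₐc[k] SLn n k := (SLn.mkHom n k).comp (Mat.toGLn n k)

/-- The special linear group acting on forms. -/
noncomputable scoped instance comodSL : HopfRep.Comod k (SLn n k) (FormRing k n d) :=
  GLin.comodAlong ((SLn.mkHom n k).comp (Mat.toGLn n k)) (formsCoact k n d)

scoped instance isCoactSL : GLin.IsCoactAlg k (SLn n k) (FormRing k n d) :=
  GLin.isCoactAlg_comodAlong ((SLn.mkHom n k).comp (Mat.toGLn n k)) (formsCoact k n d)
    (formsCoact_isCoactAlg k n d)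

theorem phi_X (i j : Fin n) : phi n k (Mat.X i j) = SLn.X i j := by
  show SLn.mk n k (Mat.toGLn n k (Mat.X i j)) = _
  rw [Mat.toGLn_X]
  rfl

theorem det_slX : (Matrix.of fun i j => (SLn.X i j : SLn n k)).det = 1 := by
  have h : SLn.mk n k (GLn.mk n k (GLb.det n k)) = 1 := SLn.det_eq_one
  rw [← h, GLb.det, AlgHom.map_det, AlgHom.map_det]
  rfl

theorem coact_X (i : FormIdx n d) :
    HopfRep.Comod.coact (k := k) (A := SLn n k) (X i : FormRing k n d) =
      ∑ l, (X l : FormRing k n d) ⊗ₜ[k] phi n k (formCoeff k n d l i) := by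
  show TensorProduct.map LinearMap.id (phi n k : Mat n k →ₗ[k] SLn n k) (formsCoactAlg k n d (X i)) = _
  rw [formsCoactAlg_X, map_sum]
  exact Finset.sum_congr rfl fun l _ => TensorProduct.map_tmul _ _ _ _

theorem isLinear_sl : GLin.IsLinear k (SLn n k) (FormIdx n d) :=
  fun i => ⟨_, coact_X i⟩

theorem orbit_X (a : FormIdx n d → k) (i : FormIdx n d) :
    GLin.orbitHom k (SLn n k) (GLin.vecPt k _ a) (X i) = phi n k (∑ l, a l • formCoeff k n d l i) := by
  rw [ComodLib.orbitCoord_eq (m := fun i l => phi n k (formCoeff k n d l i)) coact_X, map_sum]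
  exact Finset.sum_congr rfl fun l _ => (map_smul _ _ _).symm

theorem finiteType_SLn : Algebra.FiniteType k (SLn n k) := by
  have h : Algebra.FiniteType k (MvPolynomial (GLPoly.Idx n) k) := inferInstance
  exact @Algebra.FiniteType.of_surjective _ _ _ _ _ _ _ _ h ((SLn.mk n k).comp (GLn.mk n k)) fun z => by
    obtain ⟨z₁, rfl⟩ := Ideal.Quotient.mk_surjective z
    obtain ⟨z₂, rfl⟩ := Ideal.Quotient.mk_surjective z₁
    exact ⟨z₂, rfl⟩

scoped instance : Algebra.FiniteType k (SLn n k) := finiteType_SLn

/-- The matrix of a point of the special linear group. -/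
noncomputable def matOf {K : Type u} [CommRing K] [Algebra k K] (ψ : SLn n k →ₐ[k] K) : Matrix (Fin n) (Fin n) K :=
  Matrix.of fun i j => ψ (SLn.X i j)

theorem det_matOf {K : Type u} [CommRing K] [Algebra k K] (ψ : SLn n k →ₐ[k] K) : (matOf ψ).det = 1 := by
  have h := congrArg ψ (det_slX (n := n) (k := k))
  rw [AlgHom.map_det, map_one] at h
  exact h

theorem matOf_pt (M : Matrix (Fin n) (Fin n) k) (h : M.det = 1) : matOf (SLn.pt n k M h) = M := by
  ext i j
  exact SLn.pt_X M h i j

/-- Coefficients of the moved form, in terms of the orbit map. -/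
theorem coeff_moved {K : Type u} [CommRing K] [Algebra k K] (ψ : SLn n k →ₐ[k] K) (a : FormIdx n d → k)
    (i : FormIdx n d) :
    coeff i.1 (linSub (matOf ψ) (MvPolynomial.map (algebraMap k K) (formPoly a))) =
      (i.1.multinomial : K) * ψ (GLin.orbitHom k (SLn n k) (GLin.vecPt k _ a) (X i)) := by
  have h : matOf ψ = Matrix.of fun i j => (ψ.comp (phi n k : Mat n k →ₐ[k] SLn n k)) (Mat.X i j) := by
    ext i j
    exact (congrArg ψ (phi_X i j)).symm
  rw [h, coeff_linSub_formPoly, orbit_X]
  rfl

/-- The coefficient vector moved by a point. -/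
noncomputable def movedVec (g : SLn n k →ₐ[k] k) (a : FormIdx n d → k) : FormIdx n d → k :=
  fun i => GLin.actPt k g (GLin.vecPt k _ a) (X i)

theorem actPt_vecPt (g : SLn n k →ₐ[k] k) (a : FormIdx n d → k) :
    GLin.actPt k g (GLin.vecPt k _ a) = GLin.vecPt k _ (movedVec g a) :=
  algHom_ext fun i => (aeval_X (movedVec g a) i).symm

theorem coeff_movedVec (g : SLn n k →ₐ[k] k) (a : FormIdx n d → k) (i : FormIdx n d) :
    (i.1.multinomial : k) * movedVec g a i = coeff i.1 (linSub (matOf g) (formPoly a)) := by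
  have h := coeff_moved g a i
  rw [Algebra.algebraMap_self, MvPolynomial.map_id] at h
  rw [h]
  rfl

theorem formPoly_movedVec (g : SLn n k →ₐ[k] k) (a : FormIdx n d → k) :
    formPoly (movedVec g a) = linSub (matOf g) (formPoly a) := by
  ext m
  by_cases hm : m.degree = d
  · rw [coeff_formPoly (movedVec g a) ⟨m, hm⟩, coeff_movedVec g a ⟨m, hm⟩]
  · rw [(isHomogeneous_formPoly _).coeff_eq_zero hm,
      (isHomogeneous_linSub _ (isHomogeneous_formPoly a)).coeff_eq_zero hm]

theorem multinomial_ne_zero (hd : (d.factorial : k) ≠ 0) (i : FormIdx n d) : (i.1.multinomial : k) ≠ 0 := by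
  intro h
  apply hd
  have h1 := Nat.multinomial_spec i.1.support i.1
  have h2 : ∑ j ∈ i.1.support, i.1 j = d := i.2
  rw [h2, ← Finsupp.multinomial_eq] at h1
  rw [← h1, Nat.cast_mul, h, mul_zero]

theorem factorial_ne_zero [CharZero k] : (d.factorial : k) ≠ 0 := Nat.cast_ne_zero.mpr d.factorial_ne_zero

end Groth.Agent.FormsSLLib
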