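import Groth.Agent.FormsSLLib.Basic

/-! The numerical criterion for forms: a form which is not (semi)stable is destabilised by a diagonal
one-parameter family over an algebraically closed extension. -/

set_option autoImplicit false
set_option linter.style.haveILetI false

universe u

open MvPolynomial CoordGrp
open GLin (orbitHom InOrbitClosure vecPt)

namespace Groth.Agent.FormsSLLib

open Groth.Agent.SmoothFormLib

theorem exists_valuation_specialising {R A : Type u} [CommRing R] [CommRing A] (o : R →+* A) (m : Ideal R)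
    [m.IsPrime] (hker : RingHom.ker o ≤ m) :
    ∃ (K : Type u) (_ : Field K) (ψ : A →+* K) (V : ValuationSubring K),
      (∀ r, ψ (o r) ∈ V) ∧ ∀ r ∈ m, ψ (o r) ∈ V.nonunits := by
  obtain ⟨q, hq, hqm⟩ := Ideal.exists_minimalPrimes_le hker
  obtain ⟨P, hP, hPq⟩ := Ideal.exists_comap_eq_of_mem_minimalPrimes o (I := (⊥ : Ideal A)) q
    (by rw [← RingHom.ker_eq_comap_bot]; exact hq)
  haveI := hP
  let K := FractionRing (A ⧸ P)
  let π : A →+* K := (algebraMap (A ⧸ P) K).comp (Ideal.Quotient.mk P)
  let g : R →+* (π.comp o).range := (π.comp o).rangeRestrict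
  have hgker : RingHom.ker g ≤ m := fun r (hr : g r = 0) => hqm (hPq.2.le (by
    show o r ∈ P
    exact Ideal.Quotient.eq_zero_iff_mem.mp
      ((IsFractionRing.injective (A ⧸ P) K) ((congrArg Subtype.val hr).trans (map_zero _).symm))))
  have hmne : Ideal.map g m ≠ ⊤ := by
    intro htop
    have := congrArg (Ideal.comap g) htop
    rw [Ideal.comap_map_of_surjective g (π.comp o).rangeRestrict_surjective, Ideal.comap_top,
      ← RingHom.ker_eq_comap_bot, sup_eq_left.mpr hgker] at this
    exact Ideal.IsPrime.ne_top ‹_› this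
  obtain ⟨V, hV, hV'⟩ := Ideal.image_subset_nonunits_valuationSubring (A := (π.comp o).range) (Ideal.map g m) hmne
  exact ⟨K, inferInstance, π, V, fun r => hV ⟨r, rfl⟩, fun r hr => hV' ⟨g r, Ideal.mem_map_of_mem g hr, rfl⟩⟩

variable {k : Type u} [Field k] {n d : ℕ}

theorem map_nonunits {K : Type u} [Field K] {V : ValuationSubring K} (x : V) :
    (x : K) ∈ V.nonunits ↔ IsLocalRing.residue V x = 0 := by
  rw [ValuationSubring.coe_mem_nonunits_iff, IsLocalRing.residue_eq_zero_iff]

/-- Diagonalise a point and reduce. -/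
theorem reduction {K : Type u} [Field K] [Algebra k K] (V : ValuationSubring K) (hV : ∀ c : k, algebraMap k K c ∈ V)
    (F : MvPolynomial (Fin n) k) (g : Matrix (Fin n) (Fin n) K) (hg : g.det = 1)
    (hc : ∀ α, coeff α (linSub g (MvPolynomial.map (algebraMap k K) F)) ∈ V) :
    ∃ (Ω : Type u) (_ : Field Ω) (_ : IsAlgClosed Ω) (_ : Algebra k Ω) (P : Matrix (Fin n) (Fin n) Ω)
      (x : Fin n → ValuationSubring.ValueGroup V),
      IsUnit P.det ∧ Antitone x ∧ ∏ i, x i = 1 ∧
      (∀ α, coeff α (linSub P (MvPolynomial.map (algebraMap k Ω) F)) ≠ 0 → ∏ i, x i ^ α i ≤ 1) ∧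
      ((∀ α, coeff α (linSub g (MvPolynomial.map (algebraMap k K) F)) ∈ V.nonunits) →
        ∀ α, coeff α (linSub P (MvPolynomial.map (algebraMap k Ω) F)) ≠ 0 → ∏ i, x i ^ α i < 1) ∧
      ((∀ i, x i = 1) → ∀ i j, g i j ∈ V) := by
  classical
  obtain ⟨p₀, q₀, d₀, hp₀, hq₀, hgd₀⟩ := exists_diagonalisation V (Fin n) g
  let σ : Equiv.Perm (Fin n) := Tuple.sort fun i => OrderDual.toDual (V.valuation (d₀ i))
  obtain ⟨p, q, d, hp, hq, hgd, hanti⟩ : ∃ (p q : Matrix (Fin n) (Fin n) V) (d : Fin n → K),
      IsUnit p.det ∧ IsUnit q.det ∧ g = p.map V.subtype * Matrix.diagonal d * q.map V.subtype ∧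
      Antitone fun i => V.valuation (d i) := by
    refine ⟨p₀.submatrix (Equiv.refl _) σ, q₀.submatrix σ (Equiv.refl _), d₀ ∘ σ, ?_, ?_, ?_, fun i j hij => ?_⟩
    · exact (Matrix.isUnit_iff_isUnit_det _).mp ((Matrix.isUnit_submatrix_equiv _ _).mpr hp₀)
    · exact (Matrix.isUnit_iff_isUnit_det _).mp ((Matrix.isUnit_submatrix_equiv _ _).mpr hq₀)
    · rw [← Matrix.submatrix_map, ← Matrix.submatrix_map, ← Matrix.submatrix_diagonal_equiv, Matrix.submatrix_mul_equiv,
        Matrix.submatrix_mul_equiv]
      simpa using hgd₀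
    · exact (Tuple.monotone_sort (fun i => OrderDual.toDual (V.valuation (d₀ i)))) hij
  have hvu : ∀ x : V, IsUnit x → V.valuation (x : K) = 1 := fun x hx => (V.valuation_eq_one_iff x).mp hx
  have hdet : ∀ M : Matrix (Fin n) (Fin n) V, (M.map V.subtype).det = (M.det : K) :=
    fun M => (RingHom.map_det V.subtype M).symm
  have hprod : ∏ i, V.valuation (d i) = 1 := by
    have h := congrArg V.valuation hg
    rwa [hgd, Matrix.det_mul, Matrix.det_mul, Matrix.det_diagonal, hdet, hdet, map_mul, map_mul, map_prod,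
      map_one, hvu _ hp, hvu _ hq, one_mul, mul_one] at h
  let ι₀ : k →+* V := (algebraMap k K).codRestrict V.toSubring hV
  have hFK : MvPolynomial.map (algebraMap k K) F = MvPolynomial.map V.subtype (MvPolynomial.map ι₀ F) := by
    rw [MvPolynomial.map_map]; rfl
  let G := linSub p (MvPolynomial.map ι₀ F)
  obtain ⟨H', hH'⟩ : linSub g (MvPolynomial.map (algebraMap k K) F) ∈ (MvPolynomial.map V.subtype :
      MvPolynomial (Fin n) V →+* MvPolynomial (Fin n) K).range := by
    refine mem_range_map_iff_coeffs_subset.mpr fun c hcm => ?_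
    obtain ⟨α', _, rfl⟩ := mem_coeffs_iff.mp hcm
    exact ⟨⟨_, hc α'⟩, rfl⟩
  have h2 : ∀ α, V.subtype (coeff α (linSub q⁻¹ H')) = ((coeff α G : V) : K) * ∏ i, d i ^ α i := fun α => by
    have hH : linSub g (MvPolynomial.map (algebraMap k K) F) =
        linSub (q.map V.subtype) (linSub (Matrix.diagonal d) (MvPolynomial.map V.subtype G)) := by
      rw [hgd, linSub_mul, linSub_mul, hFK, ← map_linSub]
    have h : MvPolynomial.map V.subtype (linSub q⁻¹ H') = linSub (Matrix.diagonal d) (MvPolynomial.map V.subtype G) := by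
      rw [map_linSub, hH', hH, ← linSub_mul, ← Matrix.map_mul, Matrix.mul_nonsing_inv _ hq,
        Matrix.map_one _ (map_zero _) (map_one _), linSub_one]
    have h3 := congrArg (coeff α) h
    rw [coeff_map, coeff_linSub_diagonal, coeff_map] at h3
    exact h3
  let κ := IsLocalRing.ResidueField V
  let Ω := AlgebraicClosure κ
  let π : V →+* Ω := (algebraMap κ Ω).comp (IsLocalRing.residue V)
  letI : Algebra k Ω := (π.comp ι₀).toAlgebra
  have hGb : linSub (p.map π) (MvPolynomial.map (algebraMap k Ω) F) = MvPolynomial.map π G := by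
    simp only [G]; rw [map_linSub, MvPolynomial.map_map]; rfl
  have hval : ∀ α, coeff α (linSub (p.map π) (MvPolynomial.map (algebraMap k Ω) F)) ≠ 0 →
      V.valuation (V.subtype (coeff α (linSub q⁻¹ H'))) = ∏ i, V.valuation (d i) ^ α i := fun α hne => by
    have hu : IsUnit (coeff α G) := by
      by_contra h0
      apply hne
      rw [hGb, coeff_map]
      show algebraMap κ Ω (IsLocalRing.residue V _) = 0
      rw [(IsLocalRing.residue_eq_zero_iff _).mpr ((IsLocalRing.mem_maximalIdeal _).mpr h0), map_zero]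
    rw [h2, map_mul, hvu _ hu, one_mul, map_prod]
    exact Finset.prod_congr rfl fun i _ => map_pow _ _ _
  refine ⟨Ω, inferInstance, inferInstance, inferInstance, p.map π, fun i => V.valuation (d i), ?_, hanti, hprod,
    fun α hne => ?_, fun hnu α hne => ?_, fun hone i j => ?_⟩
  · rw [show (p.map π).det = π p.det from (RingHom.map_det π p).symm]
    exact hp.map π
  · rw [← hval α hne, ValuationSubring.valuation_le_one_iff]
    exact (coeff α (linSub q⁻¹ H')).2
  · rw [← hval α hne, ← ValuationSubring.mem_nonunits_iff]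
    refine (map_nonunits (coeff α (linSub q⁻¹ H'))).mpr ?_
    have hz : MvPolynomial.map (IsLocalRing.residue V) H' = 0 := by
      ext β
      rw [coeff_map, coeff_zero, ← map_nonunits]
      have := hnu β
      rwa [← hH', coeff_map] at this
    rw [← coeff_map, map_linSub, hz, map_zero, coeff_zero]
  · let d' : Fin n → V := fun i => ⟨d i, (V.valuation_le_one_iff _).mp (hone i).le⟩
    have : g = (p * Matrix.diagonal d' * q).map V.subtype := by
      rw [Matrix.map_mul, Matrix.map_mul, Matrix.diagonal_map (map_zero _)]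
      exact hgd
    rw [this]
    exact ((p * Matrix.diagonal d' * q) i j).2

/-- The numerical criterion for stability. -/
theorem isStableVec_of_forall [IsAlgClosed k] (a : FormIdx n d → k)
    (H : ∀ (Ω : Type u) [Field Ω] [IsAlgClosed Ω] [Algebra k Ω] (Γ : Type u) [LinearOrderedCommGroupWithZero Γ]
      (P : Matrix (Fin n) (Fin n) Ω) (x : Fin n → Γ),
      IsUnit P.det → Antitone x → ∏ i, x i = 1 →
      (∀ α, coeff α (linSub P (MvPolynomial.map (algebraMap k Ω) (formPoly a))) ≠ 0 → ∏ i, x i ^ α i ≤ 1) →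
      ∀ i, x i = 1) :
    GLin.IsStableVec k (SLn n k) a := by
  classical
  refine isStablePt_of_finite _ ?_
  set o := orbitHom k (SLn n k) (vecPt k (FormIdx n d) a) with ho
  have hint : ∀ i j, o.toRingHom.IsIntegralElem (SLn.X i j) := by
    intro i j
    refine isIntegralElem_of_valuation o.toRingHom _ fun K _ ψ V hV => ?_
    letI : Algebra k K := (ψ.comp (algebraMap k (SLn n k))).toAlgebra
    let ψ' : SLn n k →ₐ[k] K := ⟨ψ, fun _ => rfl⟩
    have hVk : ∀ c : k, algebraMap k K c ∈ V := fun c => by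
      have := hV (algebraMap k _ c)
      simpa [RingHom.algebraMap_toAlgebra] using this
    obtain ⟨Ω, _, _, _, P, x, hP, hanti, hprod, hle, -, hone⟩ := reduction V hVk (formPoly a) (matOf ψ')
      (det_matOf ψ') (fun α => by
        by_cases hα : α.degree = d
        · rw [coeff_moved ψ' a ⟨α, hα⟩]
          exact V.mul_mem _ _ (natCast_mem V _) (hV (X ⟨α, hα⟩))
        · rw [((isHomogeneous_linSub _ ((isHomogeneous_formPoly a).map _))).coeff_eq_zero hα]
          exact V.zero_mem)
    exact hone (H Ω _ P x hP hanti hprod hle) i j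
  letI : Algebra (FormRing k n d) (SLn n k) := o.toRingHom.toAlgebra
  haveI : IsScalarTower k (FormRing k n d) (SLn n k) := IsScalarTower.of_algebraMap_eq fun c => (o.commutes c).symm
  let S := (integralClosure (FormRing k n d) (SLn n k)).restrictScalars k
  let Ψ : MvPolynomial (GLPoly.Idx n) k →ₐ[k] SLn n k := (SLn.mk n k).comp (GLn.mk n k)
  have htop : (⊤ : Subalgebra k (MvPolynomial (GLPoly.Idx n) k)) ≤ S.comap Ψ := by
    rw [← MvPolynomial.adjoin_range_X]
    refine Algebra.adjoin_le ?_
    rintro _ ⟨(⟨i, j⟩ | ⟨⟩), rfl⟩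
    · exact hint i j
    · have h1 : SLn.mk n k GLn.Dinv = 1 := by
        have := congrArg (SLn.mk n k) (GLn.det_mul_Dinv (n := n) (k := k))
        rwa [map_mul, SLn.det_eq_one, one_mul, map_one] at this
      have h : SLn.mk n k GLn.Dinv ∈ S := by rw [h1]; exact S.one_mem
      exact h
  refine RingHom.IsIntegral.to_finite (fun z => ?_) ?_
  · obtain ⟨z₁, rfl⟩ := Ideal.Quotient.mk_surjective z
    obtain ⟨z₂, rfl⟩ := Ideal.Quotient.mk_surjective z₁
    exact htop (Algebra.mem_top (x := z₂))
  · refine RingHom.FiniteType.of_comp_finiteType (f := algebraMap k (FormRing k n d)) ?_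
    rw [show o.toRingHom.comp (algebraMap k _) = algebraMap k (SLn n k) from o.comp_algebraMap]
    exact RingHom.finiteType_algebraMap.mpr inferInstance

/-- The numerical criterion for semistability (characteristic zero: the group is linearly reductive). -/
theorem isSemistableVec_of_forall [IsAlgClosed k] (hred : HopfRep.IsLinearlyReductive k (SLn n k))
    (a : FormIdx n d → k)
    (H : ∀ (Ω : Type u) [Field Ω] [IsAlgClosed Ω] [Algebra k Ω] (Γ : Type u) [LinearOrderedCommGroupWithZero Γ]
      (P : Matrix (Fin n) (Fin n) Ω) (x : Fin n → Γ),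
      IsUnit P.det → Antitone x → ∏ i, x i = 1 →
      (∀ α, coeff α (linSub P (MvPolynomial.map (algebraMap k Ω) (formPoly a))) ≠ 0 → ∏ i, x i ^ α i < 1) → False) :
    GLin.IsSemistableVec k (SLn n k) a := by
  classical
  intro hnull
  obtain ⟨α₀, hα, hα1⟩ := ComodLib.exists_integral_of_isLinearlyReductive hred
  have heq : ∀ f ∈ GLin.invariants k (SLn n k) (FormRing k n d), vecPt k _ a f = vecPt k _ (0 : FormIdx n d → k) f := by
    intro f hf
    conv_lhs => rw [← sum_homogeneousComponent f]
    conv_rhs => rw [← sum_homogeneousComponent f]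
    rw [map_sum, map_sum]
    refine Finset.sum_congr rfl fun e _ => ?_
    rcases Nat.eq_zero_or_pos e with rfl | he
    · rw [homogeneousComponent_zero, show (C (coeff 0 f) : FormRing k n d) = algebraMap k _ (coeff 0 f) from rfl,
        AlgHom.commutes, AlgHom.commutes]
    · have h1 := hnull _ (ComodLib.homogeneousComponent_mem_invariants isLinear_sl hf e) e he
        (homogeneousComponent_isHomogeneous e f)
      show aeval a _ = aeval (0 : FormIdx n d → k) _
      rw [MvPolynomial.aeval_zero, constantCoeff_eq,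
        (homogeneousComponent_isHomogeneous e f).coeff_eq_zero (by rw [map_zero]; omega), map_zero]
      exact h1
  obtain ⟨z, hz1, hz2⟩ := ComodLib.exists_closures_meet hα hα1 _ _ heq
  have hz : z = vecPt k _ (0 : FormIdx n d → k) := algHom_ext fun i => by
    have : (X i : FormRing k n d) ∈ RingHom.ker (orbitHom k (SLn n k) (vecPt k _ (0 : FormIdx n d → k))) := by
      rw [RingHom.mem_ker, orbit_X]
      simp
    rw [show z (X i) = 0 from hz2 this]
    simp
  subst hz
  set o := orbitHom k (SLn n k) (vecPt k (FormIdx n d) a) with ho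
  haveI : (RingHom.ker (vecPt k (FormIdx n d) (0 : FormIdx n d → k))).IsPrime := RingHom.ker_isPrime _
  obtain ⟨K, _, ψ, V, hV, hV'⟩ := exists_valuation_specialising o.toRingHom _ hz1
  letI : Algebra k K := (ψ.comp (algebraMap k (SLn n k))).toAlgebra
  let ψ' : SLn n k →ₐ[k] K := ⟨ψ, fun _ => rfl⟩
  have hVk : ∀ c : k, algebraMap k K c ∈ V := fun c => by
    have := hV (algebraMap k _ c)
    simpa [RingHom.algebraMap_toAlgebra] using this
  have hnu : ∀ α, coeff α (linSub (matOf ψ') (MvPolynomial.map (algebraMap k K) (formPoly a))) ∈ V.nonunits := fun α => by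
    by_cases hα : α.degree = d
    · rw [coeff_moved ψ' a ⟨α, hα⟩, ValuationSubring.mem_nonunits_iff, map_mul]
      refine lt_of_le_of_lt (mul_le_of_le_one_left' ((V.valuation_le_one_iff _).mpr (natCast_mem V _))) ?_
      exact (ValuationSubring.mem_nonunits_iff (A := V)).mp (hV' (X ⟨α, hα⟩) (by simp [RingHom.mem_ker]))
    · rw [((isHomogeneous_linSub _ ((isHomogeneous_formPoly a).map _))).coeff_eq_zero hα]
      exact V.nonunits.zero_mem
  obtain ⟨Ω, _, _, _, P, x, hP, hanti, hprod, -, hlt, -⟩ := reduction V hVk (formPoly a) (matOf ψ')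
    (det_matOf ψ') (fun α => V.nonunits_subset (hnu α))
  exact H Ω _ P x hP hanti hprod (hlt hnu)

/-- A system of coefficient vanishing that is solvable over an extension is solvable over `k`. -/
theorem exists_matrix_of_extension [IsAlgClosed k] (hn : 0 < n) {F : MvPolynomial (Fin n) k} (hF : F.IsHomogeneous d)
    (S : Finset (Fin n →₀ ℕ)) {Ω : Type u} [Field Ω] [IsAlgClosed Ω] [Algebra k Ω] (P : Matrix (Fin n) (Fin n) Ω)
    (hP : IsUnit P.det) (h : ∀ α ∈ S, coeff α (linSub P (MvPolynomial.map (algebraMap k Ω) F)) = 0) :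
    ∃ M : Matrix (Fin n) (Fin n) k, M.det = 1 ∧ ∀ α ∈ S, coeff α (linSub M F) = 0 := by
  classical
  obtain ⟨c, hc⟩ := IsAlgClosed.exists_pow_nat_eq (k := Ω) P.det⁻¹ hn
  let Q : Matrix (Fin n) (Fin n) Ω := P * Matrix.diagonal fun _ => c
  have hQ : Q.det = 1 := by
    simp only [Q, Matrix.det_mul, Matrix.det_diagonal, Finset.prod_const, Finset.card_univ, Fintype.card_fin, hc]
    exact mul_inv_cancel₀ hP.ne_zero
  have hQS : ∀ α ∈ S, coeff α (linSub Q (MvPolynomial.map (algebraMap k Ω) F)) = 0 := fun α hα => by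
    rw [linSub_mul, coeff_linSub_diagonal, h α hα, zero_mul]
  let B := MvPolynomial (Fin n × Fin n) k
  let gen : Matrix (Fin n) (Fin n) B := Matrix.mvPolynomialX (Fin n) (Fin n) k
  let E : (Fin n →₀ ℕ) → B := fun α => coeff α (linSub gen (MvPolynomial.map (algebraMap k B) F))
  let I : Ideal B := Ideal.span (insert (gen.det - 1) (E '' S))
  have hspec : ∀ {L : Type u} [Field L] [Algebra k L] (T : Matrix (Fin n) (Fin n) L),
      (∀ α, (aeval (fun p : Fin n × Fin n => T p.1 p.2) : B →ₐ[k] L) (E α) =
        coeff α (linSub T (MvPolynomial.map (algebraMap k L) F))) ∧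
      (aeval (fun p : Fin n × Fin n => T p.1 p.2) : B →ₐ[k] L) gen.det = T.det := by
    intro L _ _ T
    let e : B →ₐ[k] L := aeval fun p : Fin n × Fin n => T p.1 p.2
    have hgen : gen.map e.toRingHom = T := by
      ext i j
      show e (X (i, j)) = _
      exact aeval_X _ _
    refine ⟨fun α => ?_, ?_⟩
    · show e.toRingHom (coeff α _) = _
      rw [← coeff_map, map_linSub, hgen, MvPolynomial.map_map,
        show e.toRingHom.comp (algebraMap k B) = algebraMap k L from e.comp_algebraMap]
    · show e.toRingHom gen.det = _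
      rw [RingHom.map_det]
      exact congrArg Matrix.det hgen
  have hI : I ≠ ⊤ := by
    intro htop
    have hle : I ≤ RingHom.ker (aeval (fun p : Fin n × Fin n => Q p.1 p.2) : B →ₐ[k] Ω) := by
      rw [Ideal.span_le]
      rintro _ (rfl | ⟨α, hα, rfl⟩)
      · rw [SetLike.mem_coe, RingHom.mem_ker, map_sub, map_one, (hspec Q).2, hQ, sub_self]
      · rw [SetLike.mem_coe, RingHom.mem_ker, (hspec Q).1, hQS α hα]
    exact RingHom.ker_ne_top _ (eq_top_iff.mpr (htop ▸ hle))
  obtain ⟨z, hz⟩ := ComodLib.exists_point (k := k) I hI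
  have hzae : z = aeval fun p : Fin n × Fin n => z (X p) := algHom_ext fun p => (aeval_X (fun q : Fin n × Fin n => z (X q)) p).symm
  refine ⟨Matrix.of fun i j => z (X (i, j)), ?_, fun α hα => ?_⟩
  · have h1 : z (gen.det - 1) = 0 := hz (Ideal.subset_span (Set.mem_insert _ _))
    rw [map_sub, map_one, sub_eq_zero, hzae] at h1
    exact ((hspec (Matrix.of fun i j => z (X (i, j)))).2).symm.trans h1
  · have h1 : z (E α) = 0 := hz (Ideal.subset_span (Set.mem_insert_of_mem _ ⟨α, hα, rfl⟩))
    rw [hzae] at h1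
    have h2 := ((hspec (Matrix.of fun i j => z (X (i, j)))).1 α).symm.trans h1
    rwa [Algebra.algebraMap_self, MvPolynomial.map_id] at h2

end Groth.Agent.FormsSLLib
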